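import Groth.Agent.HensCouple7.ProperPair
import Groth.Agent.GeomLoci.NearPoint
import Groth.Agent.FlatMisc.SteinUC
import Groth.Agent.GrpSchLib.FieldSmooth
import Groth.Agent.S0537
import Groth.Agent.S0539
import Groth.Agent.S0540

/-!
# Geometric connectedness of the fibres of a morphism with `g_* O = O`
-/

set_option autoImplicit false
set_option linter.style.haveILetI false
set_option linter.unusedSectionVars false
set_option backward.isDefEq.respectTransparency false
set_option backward.isDefEq.respectTransparency.types false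

universe u

open AlgebraicGeometry CategoryTheory CategoryTheory.Limits Topology IsLocalRing

namespace Groth.Agent.SteinLib

open HensCouple7 (Lifts)

/-- Clopens of a proper scheme over `Spec S` lift uniquely from the closed fibre. -/
def LiftsClosed (S : Type u) [CommRing S] [IsLocalRing S] : Prop :=
  ∀ (W : Scheme.{u}) (q : W ⟶ Spec (CommRingCat.of S)), IsProper q →
    Lifts (q ⁻¹' {(closedPoint S : Spec (CommRingCat.of S))})

theorem zeroLocus_maximalIdeal (S : Type u) [CommRing S] [IsLocalRing S] :
    PrimeSpectrum.zeroLocus (maximalIdeal S : Set S) = {closedPoint S} := by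
  ext s
  rw [Set.mem_singleton_iff, PrimeSpectrum.mem_zeroLocus, SetLike.coe_subset_coe]
  exact ⟨fun h => PrimeSpectrum.ext (((IsLocalRing.maximalIdeal.isMaximal S).eq_of_le s.isPrime.ne_top h).symm),
    fun h => h ▸ le_rfl⟩

theorem liftsClosed_of_noetherian (S : Type u) [CommRing S] [HenselianLocalRing S] [IsNoetherianRing S] :
    LiftsClosed S := fun W q hq => by
  haveI := hq
  have h := HensCouple7.lifts_proper (maximalIdeal S) q
  rw [zeroLocus_maximalIdeal] at h
  exact h

theorem idempotent_eq_zero_or_one {R : Type u} [CommRing R] [IsLocalRing R] {e : R} (he : e * e = e) :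
    e = 0 ∨ e = 1 := by
  rcases IsLocalRing.isUnit_or_isUnit_one_sub_self e with h | h
  · exact Or.inr (h.mul_right_cancel (by rw [one_mul, he]))
  · exact Or.inl (h.mul_left_cancel (by rw [sub_mul, one_mul, he, sub_self, mul_zero]))

/-- If the functions on `W` are those of a local base, then `W` and its closed fibre are connected. -/
theorem connectedSpace_closedFibre {S : Type u} [CommRing S] [IsLocalRing S] (hS : LiftsClosed S)
    {W : Scheme.{u}} (q : W ⟶ Spec (CommRingCat.of S)) [IsProper q] [IsIso q.appTop] :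
    ConnectedSpace ↥(q ⁻¹' {(closedPoint S : Spec (CommRingCat.of S))}) := by
  let e : S ≃+* Γ(W, ⊤) :=
    ((Scheme.ΓSpecIso (CommRingCat.of S)).symm ≪≫ asIso q.appTop).commRingCatIsoToRingEquiv
  haveI : IsLocalRing Γ(W, ⊤) := e.isLocalRing
  have hclopen : ∀ U : Set W, IsClopen U → U = ∅ ∨ U = Set.univ := fun U hU => by
    obtain ⟨ε, hε, hεU⟩ := HensCouple7.exists_idempotent_of_isClopen hU
    rcases idempotent_eq_zero_or_one hε with rfl | rfl
    · exact Or.inl (by rw [← hεU]; simp [Scheme.basicOpen_zero])
    · exact Or.inr (by rw [← hεU, Scheme.basicOpen_of_isUnit _ isUnit_one]; rfl)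
  have hne : Nonempty W := by
    by_contra h
    haveI : IsEmpty W := not_nonempty_iff.1 h
    haveI : Subsingleton Γ(W, ⊤) := inferInstance
    exact false_of_nontrivial_of_subsingleton Γ(W, ⊤)
  obtain ⟨x⟩ := hne
  obtain ⟨w, -, hw⟩ := q.isClosedMap.specializingMap (a := x) (IsLocalRing.specializes_closedPoint (q x))
  haveI : Nonempty ↥(q ⁻¹' {(closedPoint S : Spec (CommRingCat.of S))}) := ⟨⟨w, hw⟩⟩
  haveI : PreconnectedSpace ↥(q ⁻¹' {(closedPoint S : Spec (CommRingCat.of S))}) := by
    refine preconnectedSpace_of_forall_constant fun g hg => ?_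
    intro a b
    by_contra hab
    have hV : IsClopen (g ⁻¹' {g a}) := (isClopen_discrete {g a}).preimage hg
    obtain ⟨U, ⟨hU, hUV⟩, -⟩ := hS W q ‹_› _ hV
    rcases hclopen U hU with rfl | rfl
    · exact (Set.ext_iff.1 hUV a).2 rfl
    · exact hab ((Set.ext_iff.1 hUV b).1 trivial).symm
  exact { toNonempty := inferInstance }

/-- The number of geometric components of the fibre at a point over which `g_* O = O` is one. -/
theorem nGeomConnComp_eq_one_of_isIso_app {X N : Scheme.{u}} (g : X ⟶ N) [IsProper g]
    (hg : ∀ U : N.Opens, IsIso (g.app U)) (n : N)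
    (hS : ∀ (S : Type u) [CommRing S] [HenselianLocalRing S] [Algebra (N.presheaf.stalk n) S]
      [IsLocalHom (algebraMap (N.presheaf.stalk n) S)] [Hensel.IsStrictHenselization (N.presheaf.stalk n) S],
      LiftsClosed S) :
    MoreMor.nGeomConnComp g n = 1 := by
  obtain ⟨U, hU, hnU, -⟩ := exists_isAffineOpen_mem_and_subset (x := n) (U := ⊤) trivial
  haveI : IsAffine (U : Scheme.{u}) := hU
  let R := N.presheaf.stalk n
  obtain ⟨S, _, _, _, _, hSh⟩ := S0537.result R
  haveI := hSh
  haveI : Module.FaithfullyFlat R S := S0539.result R S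
  haveI : HenselianLocalRing S := hSh.henselian
  haveI : IsSepClosed (IsLocalRing.ResidueField S) := hSh.isSepClosure.sep_closed
  let φ : Spec (CommRingCat.of S) ⟶ Spec R := Spec.map (CommRingCat.ofHom (algebraMap R S))
  let τN : Spec (CommRingCat.of S) ⟶ N := φ ≫ N.fromSpecStalk n
  haveI : Flat φ := (HasRingHomProperty.Spec_iff (P := @Flat)).2 (RingHom.flat_algebraMap_iff.2 inferInstance)
  haveI : Flat (N.fromSpecStalk n) := GrpSchLib.flat_fromSpecStalk n
  haveI : Flat τN := inferInstance
  have hτc : τN (closedPoint S) = n := by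
    rw [Scheme.Hom.comp_apply]
    rw [show φ (closedPoint S) = closedPoint R from IsLocalRing.comap_closedPoint (algebraMap R S)]
    exact Scheme.fromSpecStalk_closedPoint
  have hrange : Set.range τN ⊆ Set.range U.ι := by
    rintro _ ⟨s, rfl⟩
    rw [Scheme.Opens.range_ι]
    have h1 : τN s ∈ Set.range (N.fromSpecStalk n) := ⟨φ s, rfl⟩
    rw [Scheme.range_fromSpecStalk] at h1
    exact Specializes.mem_open h1 U.isOpen hnU
  let τ : Spec (CommRingCat.of S) ⟶ (U : Scheme.{u}) := IsOpenImmersion.lift U.ι τN hrange
  have hτ : τ ≫ U.ι = τN := IsOpenImmersion.lift_fac _ _ _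
  haveI : Flat τ := by
    have sq : IsPullback (𝟙 (Spec (CommRingCat.of S))) τ τN U.ι := IsPullback.of_horiz_isIso_mono ⟨by simp [hτ]⟩
    exact MorphismProperty.of_isPullback sq inferInstance
  let gU := g ∣_ U
  haveI hgU : IsIso gU.appTop := by
    haveI : IsIso (g.app (U.ι ''ᵁ ⊤)) := hg _
    show IsIso (gU.app ⊤)
    rw [morphismRestrict_app]
    infer_instance
  let q := pullback.snd gU τ
  let p := pullback.fst gU τ
  haveI : CompactSpace ↥(g ⁻¹ᵁ U).toScheme := QuasiCompact.compactSpace_of_compactSpace gU
  haveI : QuasiSeparatedSpace ↥(g ⁻¹ᵁ U).toScheme := quasiSeparatedSpace_of_quasiSeparated gU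
  haveI : IsIso q.appTop := by
    have sq : IsPullback p q gU τ := IsPullback.of_hasPullback _ _
    have po := (isIso_pushoutSection_iff sq (US := ⊤) (UT := ⊤) (UX := ⊤) (UY := ⊤) (by simp) (by simp)
      (by simp)).mp (isIso_pushoutSection_of_isQuasiSeparated_of_flat_right sq _ _ _
        (isAffineOpen_top _) (isAffineOpen_top _) (by simpa using CompactSpace.isCompact_univ)
        (by simpa using isQuasiSeparated_univ))
    simp only [Scheme.Hom.appLE, TopologicalSpace.Opens.map_top, homOfLE_refl, op_id, CategoryTheory.Functor.map_id, Category.comp_id] at po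
    first | exact po.isIso_inr_of_isIso | exact IsPushout.isIso_inr_of_isIso po | exact IsPushout.isIso_inl_of_isIso po
  haveI := connectedSpace_closedFibre (hS S) q
  let s₀ : Spec (CommRingCat.of (ResidueField S)) ⟶ Spec (CommRingCat.of S) :=
    Spec.map (CommRingCat.ofHom (IsLocalRing.residue S))
  have hs₀ : s₀ (closedPoint (ResidueField S)) = closedPoint S := IsLocalRing.comap_closedPoint (IsLocalRing.residue S)
  have hpaste : IsPullback (p ≫ (g ⁻¹ᵁ U).ι) q g τN := by
    rw [← hτ]
    exact (IsPullback.of_hasPullback gU τ).paste_horiz (isPullback_morphismRestrict g U).flip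
  rw [← hτc, ← (Triage.GeomCount.nGeom_baseChange g q _ τN hpaste _).2, ← hs₀,
    (GeomLoci.nGeom_eq_counts q s₀ _).2]
  haveI : IsClosedImmersion s₀ := IsClosedImmersion.spec_of_surjective _ Ideal.Quotient.mk_surjective
  have hr : Set.range (pullback.fst q s₀) = q ⁻¹' {(closedPoint S : Spec (CommRingCat.of S))} := by
    rw [Scheme.Pullback.range_fst]
    congr 1
    refine Set.eq_singleton_iff_unique_mem.2 ⟨⟨closedPoint _, hs₀⟩, ?_⟩
    rintro _ ⟨w, rfl⟩
    haveI : Subsingleton ↥(Spec (CommRingCat.of (ResidueField S))) :=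
      inferInstanceAs (Subsingleton (PrimeSpectrum (ResidueField S)))
    rw [Subsingleton.elim w (closedPoint _)]; exact hs₀
  let H := (pullback.fst q s₀).isEmbedding.toHomeomorph.trans (Homeomorph.setCongr hr)
  haveI : ConnectedSpace ↥(pullback q s₀) := by
    rw [connectedSpace_iff_univ]
    have := (isConnected_univ (α := ↥(q ⁻¹' {(closedPoint S : Spec (CommRingCat.of S))}))).image H.symm
      H.symm.continuous.continuousOn
    rwa [Set.image_univ, H.symm.surjective.range_eq] at this
  exact GeomLoci.card_of_connectedSpace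

theorem geometricallyConnected_of_isIso_app_noetherian {X N : Scheme.{u}} (g : X ⟶ N) [IsProper g]
    [IsLocallyNoetherian N] (hg : ∀ U : N.Opens, IsIso (g.app U)) : GeometricallyConnected g :=
  GeomLoci.geometricallyConnected_of_nGeom _ fun n => nGeomConnComp_eq_one_of_isIso_app g hg n
    fun S _ _ _ _ _ => by
      haveI : IsNoetherianRing S := (S0540.result (N.presheaf.stalk n) S).1 inferInstance
      exact liftsClosed_of_noetherian S

end Groth.Agent.SteinLib
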