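import Groth.Agent.SteinLib.Conn
import Groth.Agent.S1340
import Groth.Agent.S1297
import Groth.Prelude.Def_ega3

/-!
# Connected components of the fibres through the Stein factorization
-/

set_option autoImplicit false
set_option linter.style.haveILetI false
set_option linter.unusedSectionVars false
set_option backward.isDefEq.respectTransparency false
set_option backward.isDefEq.respectTransparency.types false

universe u

open AlgebraicGeometry CategoryTheory CategoryTheory.Limits Topology

namespace Groth.Agent.SteinLib

theorem isProper_toNormalization {X Y : Scheme.{u}} (f : X ⟶ Y) [IsProper f] : IsProper f.toNormalization := by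
  haveI : IsProper (f.toNormalization ≫ f.fromNormalization) := by
    rw [f.toNormalization_fromNormalization]; infer_instance
  exact MorphismProperty.of_postcomp @IsProper f.toNormalization f.fromNormalization
    (inferInstance : IsSeparated _) inferInstance

theorem geometricallyConnected_toNormalization {X Y : Scheme.{u}} (f : X ⟶ Y) [IsProper f] [IsLocallyNoetherian Y] :
    GeometricallyConnected f.toNormalization := by
  haveI := isProper_toNormalization f
  haveI := S1297.result f
  haveI : IsLocallyNoetherian f.normalization := LocallyOfFiniteType.isLocallyNoetherian f.fromNormalization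
  exact geometricallyConnected_of_isIso_app_noetherian f.toNormalization (S1340.result f)

theorem surjective_of_geometricallyConnected {X Y : Scheme.{u}} (g : X ⟶ Y) [GeometricallyConnected g] (t : Y) :
    ∃ x, g x = t ∧ _root_.IsPreconnected (g ⁻¹' {t}) := by
  haveI : ConnectedSpace ↥(g.fiber t) := inferInstance
  obtain ⟨p⟩ := (inferInstance : Nonempty ↥(g.fiber t))
  refine ⟨g.fiberι t p, ?_, ?_⟩
  · have : g.fiberι t p ∈ Set.range (g.fiberι t) := Set.mem_range_self _
    rwa [Scheme.Hom.range_fiberι] at this
  · rw [← Scheme.Hom.range_fiberι, ← Set.image_univ]
    exact isPreconnected_univ.image _ (g.fiberι t).continuous.continuousOn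

theorem fibre_components {X Y : Scheme.{u}} (f : X ⟶ Y) [IsProper f] [IsLocallyNoetherian Y] (y : Y) :
    Finite ↥(f.fromNormalization.fiber y) ∧
    Function.Surjective (CohIII.fiberMapOver f.toNormalization f f.fromNormalization
        f.toNormalization_fromNormalization y).base ∧
    ∀ x x' : ↥(f.fiber y),
      (CohIII.fiberMapOver f.toNormalization f f.fromNormalization f.toNormalization_fromNormalization y).base x =
        (CohIII.fiberMapOver f.toNormalization f f.fromNormalization f.toNormalization_fromNormalization y).base x' ↔
      connectedComponent x = connectedComponent x' := by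
  haveI := S1297.result f
  haveI := geometricallyConnected_toNormalization f
  let g := f.toNormalization
  let h := f.fromNormalization
  let φ := CohIII.fiberMapOver g f h f.toNormalization_fromNormalization y
  have sq : IsPullback (f.fiberι y) φ g (h.fiberι y) := by
    refine IsPullback.of_bot ?_ (pullback.lift_fst _ _ _).symm (IsPullback.of_hasPullback h (Y.fromSpecResidueField y))
    have e1 : φ ≫ pullback.snd h (Y.fromSpecResidueField y) = f.fiberToSpecResidueField y :=
      (pullback.lift_snd _ _ _).trans (Category.comp_id _)
    rw [e1, f.toNormalization_fromNormalization]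
    exact IsPullback.of_hasPullback f (Y.fromSpecResidueField y)
  haveI : GeometricallyConnected φ := MorphismProperty.of_isPullback sq ‹_›
  haveI hfin : Finite ↥(h.fiber y) := inferInstance
  haveI hdisc : DiscreteTopology ↥(h.fiber y) := inferInstance
  refine ⟨hfin, fun t => ?_, fun x x' => ⟨fun e => ?_, fun e => ?_⟩⟩
  · obtain ⟨x, hx, -⟩ := surjective_of_geometricallyConnected φ t
    exact ⟨x, hx⟩
  · obtain ⟨-, -, hpre⟩ := surjective_of_geometricallyConnected φ (φ x)
    exact (connectedComponent_eq (hpre.subset_connectedComponent (x := x) rfl (show φ x' = φ x from e.symm)))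
  · have hx' : x' ∈ connectedComponent x := e ▸ mem_connectedComponent
    exact (isPreconnected_connectedComponent.image φ φ.continuous.continuousOn).subsingleton
      ⟨x, mem_connectedComponent, rfl⟩ ⟨x', hx', rfl⟩

end Groth.Agent.SteinLib
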