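import Groth.Agent.SteinLib.Fibre
import Groth.Agent.Graft.GenLift

/-! Stein factorization of a proper morphism to an arbitrary base. -/

set_option autoImplicit false
set_option linter.style.haveILetI false
set_option backward.isDefEq.respectTransparency false
set_option backward.isDefEq.respectTransparency.types false

universe u

open AlgebraicGeometry CategoryTheory CategoryTheory.Limits Topology

namespace Groth.Agent.SteinLib

theorem liftsClosed (S : Type u) [CommRing S] [HenselianLocalRing S] : LiftsClosed S := fun W q hq => by
  haveI := hq
  have h := Graft.lifts_proper_pair (IsLocalRing.maximalIdeal S) q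
  rw [zeroLocus_maximalIdeal] at h
  exact h

theorem geometricallyConnected_of_isIso_app {X N : Scheme.{u}} (g : X ⟶ N) [IsProper g]
    (hg : ∀ U : N.Opens, IsIso (g.app U)) : GeometricallyConnected g :=
  GeomLoci.geometricallyConnected_of_nGeom _ fun n => nGeomConnComp_eq_one_of_isIso_app g hg n
    fun S _ _ _ _ _ => liftsClosed S

theorem geometricallyConnected_toNormalization_general {X Y : Scheme.{u}} (f : X ⟶ Y) [IsProper f] :
    GeometricallyConnected f.toNormalization :=
  haveI := isProper_toNormalization f
  geometricallyConnected_of_isIso_app f.toNormalization (S1340.result f)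

theorem nGeomConnComp_eq {X Y : Scheme.{u}} (f : X ⟶ Y) [IsProper f] (y : Y) :
    MoreMor.nGeomConnComp f y = MoreMor.nGeomConnComp f.fromNormalization y := by
  haveI := isProper_toNormalization f
  haveI := geometricallyConnected_toNormalization_general f
  let g := f.toNormalization
  let h := f.fromNormalization
  let φ := CohIII.fiberMapOver g f h f.toNormalization_fromNormalization y
  have e1 : φ ≫ h.fiberToSpecResidueField y = f.fiberToSpecResidueField y :=
    (pullback.lift_snd _ _ _).trans (Category.comp_id _)
  have sq : IsPullback (f.fiberι y) φ g (h.fiberι y) := by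
    refine IsPullback.of_bot ?_ (pullback.lift_fst _ _ _).symm (IsPullback.of_hasPullback h (Y.fromSpecResidueField y))
    have e2 : φ ≫ pullback.snd h (Y.fromSpecResidueField y) = f.fiberToSpecResidueField y := e1
    rw [e2, f.toNormalization_fromNormalization]
    exact IsPullback.of_hasPullback f (Y.fromSpecResidueField y)
  haveI : GeometricallyConnected φ := MorphismProperty.of_isPullback sq ‹_›
  haveI : IsProper φ := MorphismProperty.of_isPullback sq ‹_›
  let s : Spec (CommRingCat.of (SeparableClosure (Y.residueField y))) ⟶ Spec (Y.residueField y) :=
    Spec.map (CommRingCat.ofHom (algebraMap (Y.residueField y) (SeparableClosure (Y.residueField y))))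
  let π : MoreMor.geomFiber f y ⟶ MoreMor.geomFiber h y :=
    pullback.lift (pullback.fst (f.fiberToSpecResidueField y) s ≫ φ)
      (pullback.snd (f.fiberToSpecResidueField y) s)
      (by rw [Category.assoc, e1, pullback.condition])
  have sqπ : IsPullback (pullback.fst (f.fiberToSpecResidueField y) s) π φ
      (pullback.fst (h.fiberToSpecResidueField y) s) := by
    refine IsPullback.of_bot ?_ (pullback.lift_fst _ _ _).symm (IsPullback.of_hasPullback (h.fiberToSpecResidueField y) s)
    rw [show π ≫ pullback.snd (h.fiberToSpecResidueField y) s = _ from pullback.lift_snd _ _ _, e1]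
    exact IsPullback.of_hasPullback (f.fiberToSpecResidueField y) s
  haveI : GeometricallyConnected π := MorphismProperty.of_isPullback sqπ ‹_›
  haveI : IsProper π := MorphismProperty.of_isPullback sqπ ‹_›
  have hs : Function.Surjective π := fun t => by
    obtain ⟨x, hx, -⟩ := surjective_of_geometricallyConnected π t
    exact ⟨x, hx⟩
  refine Triage.GeomCount.card_connectedComponents_eq π π.continuous hs fun t => ?_
  refine (preimage_connectedComponent_connected (fun t' => ?_)
    (π.isClosedMap.isQuotientMap π.continuous hs).isCoinducing t).isPreconnected
  obtain ⟨x, hx, hp⟩ := surjective_of_geometricallyConnected π t'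
  exact ⟨⟨x, hx⟩, hp⟩

end Groth.Agent.SteinLib
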